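import Cfsg.Agent.Cores.TwoConjugates
import Cfsg.Agent.Coprime.Sylow
import Cfsg.Agent.CharP.McBride
import Cfsg.Agent.LocalCharP.Residual
import Cfsg.Agent.PGroup.Frattini
import Mathlib.GroupTheory.Frattini

/-!
General facts on `p`-minimal subgroups above a fixed Sylow subgroup and on coprime action used for isolated
`p`-minimal subgroups.
-/

set_option autoImplicit false

open Cfsg
open scoped commutatorElement

namespace CfsgLib.Cores

variable {G : Type*} [Group G] [Finite G] {p : ℕ} [hp : Fact p.Prime]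

theorem isPMinimal_congr {A B : Type*} [Group A] [Finite A] [Group B] [Finite B] (e : A ≃* B)
    (h : IsPMinimal p A) : IsPMinimal p B := by
  intro T
  let T' : Sylow p A := T.mapSurjective (f := e.symm.toMonoidHom) e.symm.surjective
  have hT' : (T' : Subgroup A) = (T : Subgroup B).map e.symm.toMonoidHom := rfl
  have hback : (T' : Subgroup A).map e.toMonoidHom = (T : Subgroup B) := by
    rw [hT', Subgroup.map_map]; convert Subgroup.map_id (T : Subgroup B); ext x; simp
  obtain ⟨hn, M, ⟨hM, hTM⟩, huniq⟩ := h T'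
  refine ⟨fun hT => hn (hT' ▸ hT.map _ e.symm.surjective), e.mapSubgroup M,
    ⟨(e.mapSubgroup.isCoatom_iff M).mpr hM, hback ▸ Subgroup.map_mono hTM⟩, fun M' hM' => ?_⟩
  rw [← e.mapSubgroup.apply_symm_apply M']
  congr 1
  refine huniq _ ⟨(e.mapSubgroup.symm.isCoatom_iff M').mpr hM'.1, ?_⟩
  rw [← e.mapSubgroup.le_iff_le, OrderIso.apply_symm_apply]
  exact (le_of_eq hback).trans hM'.2

/-- A subgroup over `S` lies in any subgroup with all its `p`-minimal overgroups of `S` and
`N_G(S)` meets it inside. -/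
theorem le_of_pMinimal_le (S : Sylow p G) {H K : Subgroup G} (hSH : (S : Subgroup G) ≤ H)
    (hN : Subgroup.normalizer ((S : Subgroup G) : Set G) ⊓ H ≤ K)
    (hPK : ∀ P' : Subgroup G, (S : Subgroup G) ≤ P' → P' ≤ H → IsPMinimal p ↥P' → P' ≤ K) : H ≤ K := by
  have hSK : (S : Subgroup G) ≤ K := (le_inf Subgroup.le_normalizer hSH).trans hN
  intro g hg
  obtain ⟨x, hx, y, hy, hyN, rfl⟩ := CharP.exists_mul_of_mem S hSH hg
  refine mul_mem ?_ (hN ⟨hyN, hy⟩)
  have h1 : pElementClosure p H ≤ (pElementClosure p (⊤ : Subgroup ↥H)).map H.subtype :=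
    (Subgroup.closure_le _).mpr fun z ⟨hz, k, hk⟩ =>
      ⟨⟨z, hz⟩, Subgroup.subset_closure ⟨Subgroup.mem_top _, k, by rwa [Subgroup.orderOf_mk]⟩, rfl⟩
  rw [← CharP.mcBride (S.subtype hSH), Subgroup.map_sup, Subgroup.map_iSup] at h1
  refine (?_ : _ ≤ K) (h1 hx)
  refine sup_le ?_ (iSup_le fun P' => ?_)
  · exact fun z ⟨w, hw, e⟩ => e ▸ hSK hw
  · have hSP' : (S : Subgroup G) ≤ (P' : Subgroup ↥H).map H.subtype := fun s hs =>
      ⟨⟨s, hSH hs⟩, P'.2.1 hs, rfl⟩
    exact hPK _ hSP' (Subgroup.map_subtype_le _)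
      (isPMinimal_congr (Subgroup.equivMapOfInjective _ _ H.subtype_injective) P'.2.2)

/-- A normal subgroup of a `p`-minimal group contains `O^p` or meets `S` in `O_p`. -/
theorem pResidual_le_or_inf_le_pCore {P : Type*} [Group P] [Finite P] (hP : IsPMinimal p P)
    (S : Sylow p P) (N : Subgroup P) [hN : N.Normal] :
    pResidual p P ≤ N ∨ (S : Subgroup P) ⊓ N ≤ pCore p P := by
  obtain ⟨-, M, ⟨hM, hSM⟩, huniq⟩ := hP S
  have hle : ∀ X : Subgroup P, (S : Subgroup P) ≤ X → X ≠ ⊤ → X ≤ M := fun X hX hne => by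
    obtain ⟨C, hC, hXC⟩ := (eq_top_or_exists_le_coatom X).resolve_left hne
    exact huniq C ⟨hC, hX.trans hXC⟩ ▸ hXC
  by_cases h : N ⊔ (S : Subgroup P) = ⊤
  · exact Or.inl (LocalCharP.pResidual_le_of_isPGroup_quotient
      (LocalCharP.isPGroup_quotient_of_sup_eq_top S.2 h))
  refine Or.inr ?_
  obtain ⟨T, hT⟩ := LocalCharP.exists_sylow_inf S hN
  have hfr := Sylow.normalizer_sup_eq_top (N := N) T
  rw [hT] at hfr
  have hSn : (S : Subgroup P) ≤ Subgroup.normalizer (((S : Subgroup P) ⊓ N : Subgroup P) : Set P) :=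
    Coprime.le_normalizer_of_conj_mem fun s hs x hx =>
      ⟨(S : Subgroup P).mul_mem ((S : Subgroup P).mul_mem hs hx.1) ((S : Subgroup P).inv_mem hs),
        hN.conj_mem x hx.2 s⟩
  have htop : Subgroup.normalizer (((S : Subgroup P) ⊓ N : Subgroup P) : Set P) = ⊤ := by
    by_contra hne
    exact hM.1 (top_le_iff.mp (hfr ▸ sup_le (hle _ hSn hne) (le_sup_left.trans (hle _ le_sup_right h))))
  exact le_sSup ⟨Subgroup.normalizer_eq_top_iff.mp htop, S.2.to_le inf_le_left⟩

omit [Finite G] hp in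
theorem le_normalizer_of_map_eq {A V : Subgroup G}
    (h : ∀ a ∈ A, V.map (MulAut.conj a).toMonoidHom = V) : A ≤ Subgroup.normalizer (V : Set G) :=
  fun a ha => Subgroup.mem_normalizer_iff_map_conj_eq.mpr (h a ha)

omit [Finite G] hp in
theorem map_conj_fix {V : Subgroup G} {a : G} (ha : a ∈ Subgroup.normalizer (V : Set G)) :
    V.map (MulAut.conj a).toMonoidHom = V := Subgroup.mem_normalizer_iff_map_conj_eq.mp ha

omit [Finite G] hp in
theorem le_normalizer_commutator {A U V : Subgroup G} (hU : A ≤ Subgroup.normalizer (U : Set G))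
    (hV : A ≤ Subgroup.normalizer (V : Set G)) : A ≤ Subgroup.normalizer ((⁅U, V⁆ : Subgroup G) : Set G) :=
  le_normalizer_of_map_eq fun a ha => by
    rw [Subgroup.map_commutator, map_conj_fix (hU ha),
      map_conj_fix (hV ha)]

omit [Finite G] hp in
theorem le_normalizer_sup {A U V : Subgroup G} (hU : A ≤ Subgroup.normalizer (U : Set G))
    (hV : A ≤ Subgroup.normalizer (V : Set G)) :
    A ≤ Subgroup.normalizer ((U ⊔ V : Subgroup G) : Set G) :=
  le_normalizer_of_map_eq fun a ha => by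
    rw [Subgroup.map_sup, map_conj_fix (hU ha),
      map_conj_fix (hV ha)]

omit [Finite G] hp in
theorem le_normalizer_inf {A U V : Subgroup G} (hU : A ≤ Subgroup.normalizer (U : Set G))
    (hV : A ≤ Subgroup.normalizer (V : Set G)) :
    A ≤ Subgroup.normalizer ((U ⊓ V : Subgroup G) : Set G) :=
  le_normalizer_of_map_eq fun a ha => by
    rw [Subgroup.map_inf _ _ _ (MulAut.conj a).injective, map_conj_fix (hU ha),
      map_conj_fix (hV ha)]

omit [Finite G] hp in
theorem le_centralizer_commutator_bot {A B : Subgroup G} :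
    ⁅A, B⁆ = ⊥ ↔ B ≤ Subgroup.centralizer (A : Set G) := by
  rw [Subgroup.commutator_comm, Subgroup.commutator_eq_bot_iff_le_centralizer]

omit [Finite G] hp in
theorem commutator_sup_le {A B R M : Subgroup G} (hA : ⁅A, R⁆ ≤ M) (hB : ⁅B, R⁆ ≤ M)
    (hAM : A ≤ Subgroup.normalizer (M : Set G)) (hBM : B ≤ Subgroup.normalizer (M : Set G)) :
    ⁅A ⊔ B, R⁆ ≤ M := by
  refine Subgroup.commutator_le.mpr fun w hw r hr => ?_
  rw [Subgroup.sup_eq_closure] at hw
  refine (Subgroup.closure_induction (p := fun w _ => w ∈ Subgroup.normalizer (M : Set G) ∧ ⁅w, r⁆ ∈ M)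
    ?_ ⟨one_mem _, by simp⟩ ?_ ?_ hw).2
  · rintro x (hx | hx)
    · exact ⟨hAM hx, hA (Subgroup.commutator_mem_commutator hx hr)⟩
    · exact ⟨hBM hx, hB (Subgroup.commutator_mem_commutator hx hr)⟩
  · rintro a b - - ⟨ha, ha'⟩ ⟨hb, hb'⟩
    refine ⟨mul_mem ha hb, ?_⟩
    rw [show ⁅a * b, r⁆ = a * ⁅b, r⁆ * a⁻¹ * ⁅a, r⁆ by simp [commutatorElement_def, mul_assoc]]
    exact mul_mem ((Subgroup.mem_normalizer_iff.mp ha _).mp hb') ha'
  · rintro a - ⟨ha, ha'⟩
    refine ⟨inv_mem ha, ?_⟩
    rw [show ⁅a⁻¹, r⁆ = a⁻¹ * ⁅a, r⁆⁻¹ * a⁻¹⁻¹ by simp [commutatorElement_def, mul_assoc]]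
    exact (Subgroup.mem_normalizer_iff.mp (inv_mem ha) _).mp (inv_mem ha')

/-- A `t`-group `W = [W,R]` generated by an `R`-invariant `X` and fixed points equals `X`. -/
theorem eq_of_le_sup_centralizer {t : ℕ} [Fact t.Prime] {W R X : Subgroup G} (hW : IsPGroup t W)
    (hXW : X ≤ W) (hWR : ⁅W, R⁆ = W) (hRX : R ≤ Subgroup.normalizer (X : Set G))
    (hgen : W ≤ X ⊔ (W ⊓ Subgroup.centralizer (R : Set G))) : W = X := by
  have hRW : R ≤ Subgroup.normalizer (W : Set G) := by
    have := Subgroup.normalizer_commutator_ge_right W R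
    rwa [hWR] at this
  set M := X ⊔ ⁅W, W⁆ with hM
  have hMW : M ≤ W := sup_le hXW (Subgroup.commutator_le_self W)
  have hRM : R ≤ Subgroup.normalizer (M : Set G) :=
    le_normalizer_sup hRX (le_normalizer_commutator hRW hRW)
  have hWM : W ≤ Subgroup.normalizer (M : Set G) := Coprime.le_normalizer_of_conj_mem fun w hw m hm => by
    rw [show w * m * w⁻¹ = ⁅w, m⁆ * m by simp [commutatorElement_def, mul_assoc]]
    exact mul_mem (le_sup_right (a := X) (Subgroup.commutator_mem_commutator hw (hMW hm))) hm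
  have hle : W ≤ M := by
    conv_lhs => rw [← hWR]
    refine (Subgroup.commutator_mono hgen le_rfl).trans (commutator_sup_le ?_ ?_ (hXW.trans hWM)
      (inf_le_left.trans hWM))
    · exact le_sup_left.trans' (Coprime.commutator_le_of_le_normalizer hRX)
    · exact ((le_centralizer_commutator_bot.mpr (Subgroup.le_centralizer_iff.mp inf_le_right)).le).trans bot_le
  have : Group.IsNilpotent ↥W := hW.isNilpotent
  have htop : X.subgroupOf W ⊔ frattini ↥W = ⊤ := by
    refine top_le_iff.mp ?_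
    calc (⊤ : Subgroup ↥W) = M.subgroupOf W := (Subgroup.subgroupOf_eq_top.mpr hle).symm
      _ ≤ X.subgroupOf W ⊔ (commutator ↥W) := ?_
      _ ≤ _ := sup_le_sup_left (PGroup.commutator_le_frattini hW) _
    rw [hM, Subgroup.subgroupOf_sup hXW (Subgroup.commutator_le_self W)]
    refine sup_le_sup_left ?_ _
    rw [← Subgroup.map_subtype_le_map_subtype, Subgroup.map_subgroupOf_eq_of_le (Subgroup.commutator_le_self W),
      commutator_def, Subgroup.map_commutator, ← MonoidHom.range_eq_map, Subgroup.range_subtype]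
  exact le_antisymm (Subgroup.subgroupOf_eq_top.mp (frattini_nongenerating htop)) hXW

omit hp in
/-- A group acted on by `R` with all but one Sylow type centralised has `⁅V, R⁆ ≤ ⁅U, R⁆`. -/
theorem commutator_le_commutator_sylow {V R : Subgroup G} {t : ℕ} [Fact t.Prime] (U : Sylow t V)
    (hother : ∀ r : ℕ, r.Prime → r ≠ t → ∃ Q : Sylow r V,
      (Q : Subgroup V).map V.subtype ≤ Subgroup.centralizer (R : Set G)) :
    ⁅V, R⁆ ≤ ⁅(U : Subgroup V).map V.subtype, R⁆ := by
  set C := V ⊓ Subgroup.centralizer (R : Set G) with hC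
  set U₀ := (U : Subgroup V).map V.subtype with hU₀
  have hUV : U₀ ≤ V := Subgroup.map_subtype_le _
  have hcU : Nat.card U₀ = t ^ (Nat.card V).factorization t := by
    rw [hU₀, Subgroup.card_map_of_injective V.subtype_injective, U.card_eq_multiplicity]
  have hmV : C.relIndex V * Nat.card C = Nat.card V := by
    rw [mul_comm, ← Subgroup.relIndex_bot_left, ← Subgroup.relIndex_bot_left (H := V),
      Subgroup.relIndex_mul_relIndex _ _ _ bot_le inf_le_left]
  have hmU : C.relIndex U₀ * Nat.card ↥(C ⊓ U₀) = Nat.card U₀ := by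
    rw [mul_comm, ← Subgroup.inf_relIndex_right, ← Subgroup.relIndex_bot_left,
      ← Subgroup.relIndex_bot_left (H := U₀), Subgroup.relIndex_mul_relIndex _ _ _ bot_le inf_le_right]
  have h0 : ∀ W : Subgroup G, C.relIndex W ≠ 0 := fun _ => Subgroup.index_ne_zero_of_finite
  have hge : C.relIndex V ≤ C.relIndex U₀ := by
    refine Nat.le_of_dvd (Nat.pos_of_ne_zero (h0 _)) ?_
    rw [← Nat.factorization_le_iff_dvd (h0 _)
      (h0 _)]
    intro r
    by_cases hr : r.Prime
    swap
    · simp [Nat.factorization_eq_zero_of_not_prime _ hr]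
    have : Fact r.Prime := ⟨hr⟩
    have eV : (C.relIndex V).factorization r + (Nat.card C).factorization r =
        (Nat.card V).factorization r := by
      rw [← hmV, Nat.factorization_mul (h0 _)
        Nat.card_pos.ne', Finsupp.add_apply]
    rcases eq_or_ne r t with rfl | hne
    · have eU : (C.relIndex U₀).factorization r + (Nat.card ↥(C ⊓ U₀)).factorization r =
          (Nat.card V).factorization r := by
        rw [← Finsupp.add_apply, ← Nat.factorization_mul (h0 _)
          Nat.card_pos.ne', hmU, hcU, Nat.Prime.factorization_pow hr, Finsupp.single_eq_same]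
      have hfd : (Nat.card ↥(C ⊓ U₀)).factorization r ≤ (Nat.card C).factorization r :=
        (Nat.factorization_le_iff_dvd Nat.card_pos.ne' Nat.card_pos.ne').mpr
          (Subgroup.card_dvd_of_le inf_le_left) r
      omega
    · obtain ⟨Q, hQ⟩ := hother r hr hne
      have hd : r ^ (Nat.card V).factorization r ∣ Nat.card C := by
        rw [← Q.card_eq_multiplicity, ← Subgroup.card_map_of_injective V.subtype_injective]
        exact Subgroup.card_dvd_of_le (le_inf (Subgroup.map_subtype_le _) hQ)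
      have hfd := (hr.pow_dvd_iff_le_factorization Nat.card_pos.ne').mp hd
      omega
  have hsurj : Function.Surjective (Subgroup.quotientSubgroupOfEmbeddingOfLE C hUV) := by
    refine ((Nat.bijective_iff_injective_and_card _).mpr ⟨Function.Embedding.injective _, ?_⟩).2
    exact le_antisymm (Nat.card_le_card_of_injective _
      (Subgroup.quotientSubgroupOfEmbeddingOfLE C hUV).injective) hge
  refine Subgroup.commutator_le.mpr fun v hv r hr => ?_
  obtain ⟨q, hq⟩ := hsurj (QuotientGroup.mk ⟨v, hv⟩)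
  induction q using QuotientGroup.induction_on with
  | H u =>
    have hc : (u : G)⁻¹ * v ∈ C := by simpa [Subgroup.mem_subgroupOf] using QuotientGroup.eq.mp hq
    have hcomm : ((u : G)⁻¹ * v) * r = r * ((u : G)⁻¹ * v) :=
      (Subgroup.mem_centralizer_iff.mp hc.2 r hr).symm
    have : ⁅v, r⁆ = ⁅(u : G), r⁆ := by
      calc ⁅v, r⁆ = u * (((u : G)⁻¹ * v) * r) * ((u : G)⁻¹ * v)⁻¹ * (u : G)⁻¹ * r⁻¹ := by
            simp [commutatorElement_def, mul_assoc]
        _ = ⁅(u : G), r⁆ := by rw [hcomm, commutatorElement_def]; group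
    rw [this]
    exact Subgroup.commutator_mem_commutator u.2 hr

end CfsgLib.Cores
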