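import Cfsg.Agent.Cores.FStar
import Cfsg.Agent.Cores.BenderMaximal
import Cfsg.Agent.Coprime.Basic
import Cfsg.Agent.CharP.PResidual

/-!
An `r`-subgroup normalised by a subgroup `S` of `F = F*(H)` subnormal and self-centralising in `F`
centralises the elements of `F` of order prime to `r`.
-/

set_option autoImplicit false

open Cfsg
open scoped commutatorElement

namespace CfsgLib.Cores

variable {H : Type*} [Group H] [Finite H]

omit [Finite H] in
theorem conj_mem_of_normalizer {M : Subgroup H} {g : H} (hg : g ∈ Subgroup.normalizer (M : Set H))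
    {x : H} (hx : x ∈ M) : g * x * g⁻¹ ∈ M :=
  (Subgroup.mem_normalizer_iff.mp hg x).mp hx

/-- A coprime `r`-group centralising a self-centralising subnormal subgroup centralises. -/
theorem le_centralizer_of_subnormal_selfCentralizing {r : ℕ} [Fact r.Prime] (n : ℕ) :
    ∀ (M K R : Subgroup H), Nat.card ↥M ≤ n → IsPGroup r ↥R → ¬ r ∣ Nat.card ↥M →
      R ≤ Subgroup.normalizer (M : Set H) → K ≤ M → (K.subgroupOf M).IsSubnormal →
      R ≤ Subgroup.centralizer (K : Set H) → M ⊓ Subgroup.centralizer (K : Set H) ≤ K →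
      R ≤ Subgroup.centralizer (M : Set H) := by
  induction n with
  | zero => intro M _ _ h; exact absurd h (by have := Nat.card_pos (α := ↥M); omega)
  | succ n ih =>
    intro M K R hn hR hrM hRM hKM hsn hRK hC
    rcases Subgroup.IsSubnormal.lt_normal hsn with he | ⟨N', hN', hKN', hlt⟩
    · rw [Subgroup.subgroupOf_eq_top] at he
      rwa [le_antisymm hKM he] at hRK
    set L' := Subgroup.normalClosure ((K.subgroupOf M : Subgroup ↥M) : Set ↥M) with hL'
    have hL'n : L'.Normal := Subgroup.normalClosure_normal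
    set L := L'.map M.subtype with hL
    have hLM : L ≤ M := Subgroup.map_subtype_le _
    have hKL : K ≤ L := fun k hk => ⟨⟨k, hKM hk⟩, Subgroup.subset_normalClosure hk, rfl⟩
    have hRL : R ≤ Subgroup.normalizer (L : Set H) := by
      refine Coprime.le_normalizer_of_conj_mem fun a ha x hx => ?_
      obtain ⟨y, hy, rfl⟩ := hx
      let φ : ↥M →* ↥M :=
        ((MulAut.conj a).toMonoidHom.comp M.subtype).codRestrict M
          (fun m => conj_mem_of_normalizer (hRM ha) m.2)
      haveI : (L'.comap φ).Normal := hL'n.comap φ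
      have hle : L' ≤ L'.comap φ := by
        refine Subgroup.normalClosure_le_normal fun k hk => ?_
        show φ k ∈ L'
        have e : φ k = k := by
          apply Subtype.ext
          show a * (k : H) * a⁻¹ = k
          rw [← Subgroup.mem_centralizer_iff.mp (hRK ha) (k : H) hk, mul_inv_cancel_right]
        rw [e]
        exact Subgroup.subset_normalClosure hk
      exact ⟨φ y, hle hy, rfl⟩
    have hlt' : Nat.card ↥L ≤ n := by
      have h1 : L' ≠ ⊤ := fun e =>
        hlt.ne (top_le_iff.mp (e ▸ Subgroup.normalClosure_le_normal hKN' : ⊤ ≤ N'))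
      have h2 : Nat.card ↥L' < Nat.card ↥M := by
        refine lt_of_le_of_ne (Nat.le_of_dvd Nat.card_pos L'.card_subgroup_dvd_card) fun e => h1 ?_
        exact Subgroup.eq_top_of_card_eq L' e
      rw [hL, Subgroup.card_map_of_injective M.subtype_injective]
      omega
    have hsnL : (K.subgroupOf L).IsSubnormal := by
      have := hsn.comap (Subgroup.inclusion hLM)
      exact this
    have hRCL := ih L K R hlt' hR (fun h => hrM (h.trans (Subgroup.card_dvd_of_le hLM))) hRL hKL hsnL
      hRK ((inf_le_inf_right _ hLM).trans hC)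
    have hML : M ≤ Subgroup.normalizer (L : Set H) := le_normalizer_map_subtype M L'
    obtain ⟨k, hk⟩ := IsPGroup.iff_card.mp hR
    have hcop : (Nat.card ↥R).Coprime (Nat.card ↥M) := by
      rw [hk]
      exact ((Fact.out : r.Prime).coprime_iff_not_dvd.mpr hrM).pow_left k
    have h3 : ⁅⁅M, R⁆, L⁆ = ⊥ := by
      refine Subgroup.commutator_commutator_eq_bot_of_rotate ?_ ?_
      · rw [commutator_eq_bot_comm.mp (Subgroup.commutator_eq_bot_iff_le_centralizer.mpr
          (Subgroup.le_centralizer_iff.mp hRCL)), Subgroup.commutator_bot_left]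
      · refine le_bot_iff.mp ((Subgroup.commutator_mono
          (Subgroup.le_normalizer_iff_commutator_le_left.mp hML) le_rfl).trans ?_)
        exact (commutator_eq_bot_comm.mp (Subgroup.commutator_eq_bot_iff_le_centralizer.mpr hRCL)).le
    have h4 : ⁅⁅M, R⁆, R⁆ = ⊥ := by
      refine le_bot_iff.mp ((Subgroup.commutator_mono (?_ : ⁅M, R⁆ ≤ K) le_rfl).trans ?_)
      · refine le_trans (le_inf (Subgroup.le_normalizer_iff_commutator_le_left.mp hRM) ?_) hC
        exact (Subgroup.commutator_eq_bot_iff_le_centralizer.mp h3).trans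
          (Subgroup.centralizer_le (SetLike.coe_subset_coe.mpr hKL))
      · exact (commutator_eq_bot_comm.mp (Subgroup.commutator_eq_bot_iff_le_centralizer.mpr hRK)).le
    exact Subgroup.commutator_eq_bot_iff_le_centralizer.mp
      (commutator_eq_bot_comm.mp (Coprime.commutator_eq_bot_of_stab hRM hcop h4))

/-- An element of order prime to `r` of `N ⊔ P` lies in the normal subgroup `N` when `P` is an
`r`-group. -/
theorem mem_of_coprime_of_mem_sup {r : ℕ} [Fact r.Prime] {N P : Subgroup H} [N.Normal]
    (hP : IsPGroup r ↥P) {d : H} (hd : (orderOf d).Coprime r) (h : d ∈ N ⊔ P) : d ∈ N := by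
  obtain ⟨a, ha, b, hb, rfl⟩ := Subgroup.mem_sup_of_normal_left.mp h
  obtain ⟨k, hk⟩ := hP ⟨b, hb⟩
  have hb1 : QuotientGroup.mk' N (a * b) ^ r ^ k = 1 := by
    have ha1 : QuotientGroup.mk' N a = 1 := (QuotientGroup.eq_one_iff a).mpr ha
    rw [map_mul, ha1, one_mul, ← map_pow, show b ^ r ^ k = 1 from congrArg Subtype.val hk, map_one]
  refine (QuotientGroup.eq_one_iff _).mp (orderOf_eq_one_iff.mp ?_)
  exact Nat.Coprime.eq_one_of_dvd
    ((Nat.Coprime.coprime_dvd_left (orderOf_map_dvd (QuotientGroup.mk' N) (a * b)) hd).pow_right k)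
    (orderOf_dvd_of_pow_eq_one hb1)

variable (H) in
/-- `E(H) O_{r'}(F(H))`. -/
abbrev rPrimeFStar (r : ℕ) : Subgroup H := layer H ⊔ (fittingSubgroup H ⊓ pPrimeCore r H)

theorem generalizedFitting_le_rPrimeFStar_sup (r : ℕ) [Fact r.Prime] :
    generalizedFittingSubgroup H ≤ rPrimeFStar H r ⊔ pCore r H := by
  refine sup_le (le_sup_left.trans le_sup_left) ((fitting_le_pCore_sup r).trans (sup_le le_sup_right ?_))
  exact le_sup_right.trans le_sup_left

theorem rPrimeFStar_le_centralizer_pCore (r : ℕ) [Fact r.Prime] :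
    rPrimeFStar H r ≤ Subgroup.centralizer (pCore r H : Set H) := by
  rw [sup_le_iff, ← Subgroup.commutator_eq_bot_iff_le_centralizer,
    ← Subgroup.commutator_eq_bot_iff_le_centralizer]
  constructor
  · exact le_bot_iff.mp ((Subgroup.commutator_mono le_rfl (Constrained.pCore_le_fitting (p := r))).trans
      (commutator_eq_bot_comm.mp commutator_fitting_layer).le)
  · refine Subgroup.commutator_eq_bot_of_disjoint ?_
    rw [disjoint_iff, inf_comm]
    exact Constrained.disjoint_of_isPGroup_of_not_dvd Constrained.isPGroup_pCore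
      (fun h => Constrained.pPrimeCore_not_dvd (G := H) (p := r) (h.trans (Subgroup.card_dvd_of_le inf_le_right)))

theorem mem_rPrimeFStar {r : ℕ} [Fact r.Prime] {d : H} (hd : (orderOf d).Coprime r)
    (h : d ∈ generalizedFittingSubgroup H) : d ∈ rPrimeFStar H r :=
  mem_of_coprime_of_mem_sup Constrained.isPGroup_pCore hd (generalizedFitting_le_rPrimeFStar_sup r h)

variable {S : Subgroup H}

theorem layer_le_of_selfCentralizing (hSF : S ≤ generalizedFittingSubgroup H) (hS : S.IsSubnormal)
    (hC : generalizedFittingSubgroup H ⊓ Subgroup.centralizer (S : Set H) ≤ S) : layer H ≤ S := by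
  refine layer_le fun K hK => ?_
  rcases component_le_or_commutes hK hS with h | h
  · exact h
  · exact le_trans (le_inf ((le_layer hK).trans layer_le_generalizedFitting)
      (Subgroup.commutator_eq_bot_iff_le_centralizer.mp h)) hC

/-- A subgroup of the centre of `F*(H)` lies in `S`. -/
theorem mem_of_center_generalizedFitting
    (hC : generalizedFittingSubgroup H ⊓ Subgroup.centralizer (S : Set H) ≤ S)
    (hSF : S ≤ generalizedFittingSubgroup H) {z : H}
    (hz : z ∈ generalizedFittingSubgroup H)
    (hzc : ∀ y ∈ generalizedFittingSubgroup H, y * z = z * y) : z ∈ S :=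
  hC ⟨hz, Subgroup.mem_centralizer_iff.mpr fun s hs => hzc s (hSF hs)⟩

/-- An `r`-subgroup normalised by `S` commutes with the `r'`-elements of `S`. -/
theorem commute_of_le_normalizer {r : ℕ} [Fact r.Prime] (hSF : S ≤ generalizedFittingSubgroup H)
    (hS : S.IsSubnormal) {R : Subgroup H} (hR : IsPGroup r ↥R)
    (hSR : S ≤ Subgroup.normalizer (R : Set H)) {d : H} (hd : (orderOf d).Coprime r) (hdS : d ∈ S) :
    R ≤ Subgroup.centralizer ({d} : Set H) := by
  set F := generalizedFittingSubgroup H with hF
  have hstab : ∀ U : Subgroup H, IsPGroup r ↥U → d ∈ Subgroup.normalizer (U : Set H) →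
      ⁅⁅U, Subgroup.zpowers d⁆, Subgroup.zpowers d⁆ = ⊥ → U ≤ Subgroup.centralizer ({d} : Set H) := by
    intro U hU hdU h
    obtain ⟨k, hk⟩ := IsPGroup.iff_card.mp hU
    have hcop : (Nat.card ↥(Subgroup.zpowers d)).Coprime (Nat.card ↥U) := by
      rw [hk, Nat.card_zpowers]; exact hd.pow_right k
    have h1 := Coprime.commutator_eq_bot_of_stab (Subgroup.zpowers_le.mpr hdU) hcop h
    intro u hu
    exact Subgroup.mem_centralizer_singleton_iff.mpr
      (commute_of_commutator_eq_bot h1 hu (Subgroup.mem_zpowers d))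
  have hcent : ∀ U : Subgroup H, U ≤ Subgroup.centralizer ({d} : Set H) →
      ⁅U, Subgroup.zpowers d⁆ = ⊥ := by
    intro U hU
    rw [Subgroup.commutator_eq_bot_iff_le_centralizer]
    intro u hu
    refine Subgroup.mem_centralizer_iff.mpr fun w hw => ?_
    obtain ⟨i, rfl⟩ := Subgroup.mem_zpowers_iff.mp hw
    exact ((show Commute u d from Subgroup.mem_centralizer_singleton_iff.mp (hU hu)).zpow_right i).symm
  -- `R ∩ F` by induction along a subnormal series from `S` to `F`
  have hP : ∀ T : Subgroup H, T.IsSubnormal → S ≤ T →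
      (R ⊓ F) ⊓ T ≤ Subgroup.centralizer ({d} : Set H) → R ⊓ F ≤ Subgroup.centralizer ({d} : Set H) := by
    intro T hT
    induction hT with
    | top => intro _ h; rwa [inf_top_eq] at h
    | step A B h_le _ hn ih =>
      intro hSA h
      refine ih (hSA.trans h_le) ?_
      set U := (R ⊓ F) ⊓ B with hU
      have hdU : d ∈ Subgroup.normalizer (U : Set H) := by
        refine Subgroup.mem_normalizer_iff.mpr fun x => ?_
        exact Subgroup.mem_inf.trans ((and_congr
          ((Subgroup.mem_inf.trans (and_congr (Subgroup.mem_normalizer_iff.mp (hSR hdS) x)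
            (Subgroup.mem_normalizer_iff.mp
              (Subgroup.le_normalizer_of_normal (H := F) (Subgroup.mem_top d)) x))).trans
                Subgroup.mem_inf.symm)
          (Subgroup.mem_normalizer_iff.mp (Subgroup.le_normalizer (h_le (hSA hdS))) x)).trans
            Subgroup.mem_inf.symm)
      refine hstab U (hR.to_le (inf_le_left.trans inf_le_left)) hdU (hcent _ (le_trans ?_ h))
      rw [Subgroup.commutator_le]
      intro u hu w hw
      have hwn : w ∈ Subgroup.normalizer (U : Set H) := Subgroup.zpowers_le.mpr hdU hw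
      have hwA : w ∈ A := hSA (Subgroup.zpowers_le.mpr hdS hw)
      have hU' : ⁅u, w⁆ ∈ U := by
        rw [commutatorElement_def,
          show u * w * u⁻¹ * w⁻¹ = u * (w * u⁻¹ * w⁻¹) by group]
        exact U.mul_mem hu (conj_mem_of_normalizer hwn (U.inv_mem hu))
      refine ⟨hU'.1, ?_⟩
      have h1 := hn.conj_mem (⟨w, h_le hwA⟩ : ↥B) (Subgroup.mem_subgroupOf.mpr hwA) ⟨u, hu.2⟩
      rw [Subgroup.mem_subgroupOf] at h1
      rw [commutatorElement_def]
      exact A.mul_mem h1 (A.inv_mem hwA)
  have hbase : (R ⊓ F) ⊓ S ≤ Subgroup.centralizer ({d} : Set H) := by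
    set U := (R ⊓ F) ⊓ S with hU
    have hUn : (U.subgroupOf S).Normal := by
      refine ⟨fun x hx g => ?_⟩
      rw [Subgroup.mem_subgroupOf] at hx ⊢
      exact ⟨⟨conj_mem_of_normalizer (hSR g.2) hx.1.1,
        conj_mem_of_normalizer (Subgroup.le_normalizer_of_normal (H := F) (Subgroup.mem_top _)) hx.1.2⟩,
        (g * x * g⁻¹).2⟩
    have hle : U ≤ pCore r H := le_pCore_of_isSubnormal
      (Subgroup.IsSubnormal.trans inf_le_right hUn.isSubnormal hS) (hR.to_le (inf_le_left.trans inf_le_left))
    intro u hu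
    exact Subgroup.mem_centralizer_singleton_iff.mpr
      (Subgroup.mem_centralizer_iff.mp
        (rPrimeFStar_le_centralizer_pCore r (mem_rPrimeFStar hd (hSF hdS))) u (hle hu))
  have hR0 := hP S hS le_rfl hbase
  refine hstab R hR (hSR hdS) (hcent _ (le_trans (le_inf ?_ ?_) hR0))
  · exact Subgroup.le_normalizer_iff_commutator_le_left.mp (Subgroup.zpowers_le.mpr (hSR hdS))
  · refine (Subgroup.commutator_mono le_top (Subgroup.zpowers_le.mpr (hSF hdS))).trans ?_
    exact Subgroup.commutator_le_right (⊤ : Subgroup H) F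

/-- Elements commuting with all `r'`-elements of the layer commute with the layer. -/
theorem layer_le_of_rPrime {r : ℕ} [Fact r.Prime] {T : Subgroup H}
    (h : ∀ d ∈ layer H, (orderOf d).Coprime r → d ∈ T) : layer H ≤ T := by
  set E := layer H with hE
  set W := pResidual r ↥E with hW
  haveI : W.Normal := CharP.pResidual_normal
  have hWT : W.map E.subtype ≤ T := by
    rw [hW, Cfsg.pResidual, MonoidHom.map_closure, Subgroup.closure_le]
    rintro _ ⟨d, hd, rfl⟩
    refine h _ d.2 ?_
    show (orderOf (d : H)).Coprime r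
    rw [Subgroup.orderOf_coe]
    exact hd
  have htop : W = ⊤ := by
    by_contra hne
    have hq := CharP.isPGroup_quotient_pResidual (p := r) W le_rfl
    haveI : Group.IsSolvable (↥E ⧸ W) := by
      haveI := hq.isNilpotent
      infer_instance
    have hperf : ⁅(⊤ : Subgroup ↥E), (⊤ : Subgroup ↥E)⁆ = ⊤ := by
      apply Subgroup.map_injective E.subtype_injective
      rw [Subgroup.map_commutator, map_subtype_top, isPerfect_layer]
    have h1 : ⁅(⊤ : Subgroup (↥E ⧸ W)), (⊤ : Subgroup (↥E ⧸ W))⁆ = ⊤ := by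
      rw [← Subgroup.map_top_of_surjective (QuotientGroup.mk' W) (QuotientGroup.mk'_surjective W),
        ← Subgroup.map_commutator, hperf]
    haveI : Group.IsPerfect (↥E ⧸ W) := ⟨h1⟩
    haveI : Nontrivial (↥E ⧸ W) := QuotientGroup.nontrivial_iff.mpr hne
    exact Group.IsPerfect.not_isSolvable (↥E ⧸ W) inferInstance
  refine le_trans (le_of_eq ?_) hWT
  rw [htop, map_subtype_top]

/-- An `r`-subgroup normalised by `S` centralises `E(H) O_{r'}(F(H))`. -/
theorem le_centralizer_rPrimeFStar {r : ℕ} [Fact r.Prime] (hSF : S ≤ generalizedFittingSubgroup H)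
    (hS : S.IsSubnormal)
    (hC : generalizedFittingSubgroup H ⊓ Subgroup.centralizer (S : Set H) ≤ S)
    {R : Subgroup H} (hR : IsPGroup r ↥R) (hSR : S ≤ Subgroup.normalizer (R : Set H)) :
    R ≤ Subgroup.centralizer (rPrimeFStar H r : Set H) := by
  set M := fittingSubgroup H ⊓ pPrimeCore r H with hM
  have hd : ∀ d ∈ S, (orderOf d).Coprime r → d ∈ Subgroup.centralizer (R : Set H) := fun d hdS hdo =>
    Subgroup.mem_centralizer_iff.mpr fun x hx =>
      Subgroup.mem_centralizer_singleton_iff.mp (commute_of_le_normalizer hSF hS hR hSR hdo hdS hx)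
  have hES := layer_le_of_selfCentralizing hSF hS hC
  rw [Subgroup.le_centralizer_iff]
  refine sup_le (layer_le_of_rPrime fun d hdE hdo => hd d (hES hdE) hdo) ?_
  rw [← Subgroup.le_centralizer_iff]
  have hMd : ¬ r ∣ Nat.card ↥M := fun h =>
    Constrained.pPrimeCore_not_dvd (h.trans (Subgroup.card_dvd_of_le inf_le_right))
  refine le_centralizer_of_subnormal_selfCentralizing (Nat.card ↥M) M (S ⊓ M) R le_rfl hR hMd
    Subgroup.le_normalizer_of_normal inf_le_right ?_ ?_ ?_
  · have : (S ⊓ M).subgroupOf M = S.subgroupOf M := by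
      ext x; simp [Subgroup.mem_subgroupOf]
    rw [this]
    exact hS.subgroupOf
  · rw [Subgroup.le_centralizer_iff]
    intro x hx
    refine hd x hx.1 ?_
    exact Nat.Coprime.coprime_dvd_left (Subgroup.orderOf_dvd_natCard M hx.2)
      ((Fact.out : r.Prime).coprime_iff_not_dvd.mpr hMd).symm
  · rintro m ⟨hmM, hmC⟩
    refine ⟨hC ⟨fitting_le_generalizedFitting hmM.1, Subgroup.mem_centralizer_iff.mpr fun s hs => ?_⟩, hmM⟩
    obtain ⟨e, he, f, hf, rfl⟩ := mem_generalizedFitting_iff_exists.mp (hSF hs)
    have hme : e * m = m * e :=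
      (commute_of_commutator_eq_bot commutator_fitting_layer hmM.1 he).symm
    have hfS : f ∈ S := by
      have := S.mul_mem (S.inv_mem (hES he)) hs
      rwa [inv_mul_cancel_left] at this
    have hfsup : f ∈ M ⊔ pCore r H := by
      rw [sup_comm]
      exact fitting_le_pCore_sup r hf
    haveI : M.Normal := inferInstance
    obtain ⟨a, ha, o, ho, hfe⟩ := Subgroup.mem_sup_of_normal_left.mp hfsup
    have hao : Commute a o := by
      have h1 := Subgroup.mem_centralizer_iff.mp
        (rPrimeFStar_le_centralizer_pCore r (Subgroup.mem_sup_right ha)) o ho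
      exact h1.symm
    obtain ⟨k, hk⟩ := Constrained.isPGroup_pCore (p := r) (G := H) ⟨o, ho⟩
    have hok : o ^ r ^ k = 1 := congrArg Subtype.val hk
    have hfk : f ^ r ^ k = a ^ r ^ k := by rw [← hfe, hao.mul_pow, hok, mul_one]
    have hmak : Commute m (a ^ r ^ k) :=
      (Subgroup.mem_centralizer_iff.mp hmC (a ^ r ^ k) ⟨hfk ▸ S.pow_mem hfS _, M.pow_mem ha _⟩).symm
    have haz : a ∈ Subgroup.zpowers (a ^ r ^ k) := by
      have hcop : (r ^ k).Coprime (orderOf a) := ((Nat.Coprime.coprime_dvd_left
        (Subgroup.orderOf_dvd_natCard M ha) ((Fact.out : r.Prime).coprime_iff_not_dvd.mpr hMd).symm).pow_right k).symm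
      obtain ⟨j, hj⟩ := exists_pow_eq_self_of_coprime hcop
      exact ⟨(j : ℤ), by simpa using hj⟩
    have hma : Commute m a := by
      obtain ⟨i, hi⟩ := Subgroup.mem_zpowers_iff.mp haz
      rw [← hi]; exact hmak.zpow_right i
    have hmo : Commute m o := (Subgroup.mem_centralizer_iff.mp
      (rPrimeFStar_le_centralizer_pCore r (Subgroup.mem_sup_right hmM)) o ho).symm
    have hmf : m * f = f * m := by rw [← hfe]; exact hma.mul_right hmo
    calc e * f * m = e * (m * f) := by rw [hmf, mul_assoc]
      _ = m * (e * f) := by rw [← mul_assoc, hme, mul_assoc]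

end CfsgLib.Cores
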