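import Cfsg.Agent.Constrained.CyclicNormalSylow
import Cfsg.Agent.Coprime.Generation
import Cfsg.Agent.Coprime.Stabilizer
import Cfsg.Agent.Coprime.Minimal
import Cfsg.Agent.Cores.SubnormalStab

/-!
In a `p`-soluble group a `p`-subgroup `A` outside `O_p` with `Φ(A) ≤ O_p` yields two conjugates of `A`
generating a subgroup `L` with `[O^p(L), A] = O^p(L) ≤ O_{p,p'}` and `|A : A ∩ O_p(L)| = p`.
-/

set_option autoImplicit false

open Cfsg
open scoped commutatorElement

namespace CfsgLib.Cores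

variable {M : Type*} [Group M]

/-- The `p'`-part of an element. -/
theorem exists_pow_coprime_part [Finite M] {p : ℕ} [hp : Fact p.Prime] (c : M) :
    ∃ k : ℕ, (orderOf (c ^ k)).Coprime p ∧
      ∀ {N : Type*} [Group N] (f : M →* N), (orderOf (f c)).Coprime p → f (c ^ k) = f c := by
  obtain ⟨e, m, hm, hn⟩ := Nat.exists_eq_pow_mul_and_not_dvd (orderOf_pos c).ne' p hp.out.ne_one
  have hmp : m.Coprime p := ((Nat.Prime.coprime_iff_not_dvd hp.out).mpr hm).symm
  obtain ⟨k, hk0, hk1⟩ := Nat.chineseRemainder (hmp.symm.pow_left e) 0 1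
  refine ⟨k, Nat.Coprime.coprime_dvd_left ?_ hmp, fun f hf => ?_⟩
  · obtain ⟨q, rfl⟩ := Nat.modEq_zero_iff_dvd.mp hk0
    refine orderOf_dvd_of_pow_eq_one ?_
    rw [← pow_mul, show p ^ e * q * m = orderOf c * q by rw [hn]; ring, pow_mul, pow_orderOf_eq_one,
      one_pow]
  · have hd : orderOf (f c) ∣ m :=
      (hf.pow_right e).dvd_of_dvd_mul_left (hn ▸ orderOf_map_dvd f c)
    rw [map_pow]
    calc f c ^ k = f c ^ 1 := pow_eq_pow_iff_modEq.mpr (hk1.of_dvd hd)
      _ = f c := pow_one _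

/-- An element of order prime to `p` of `K ⊔ A` lies in `K` when the `p`-group `A` normalises `K`. -/
theorem mem_of_coprime_of_mem_sup_of_le_normalizer [Finite M] {p : ℕ} [Fact p.Prime] {K A : Subgroup M}
    (hA : IsPGroup p A) (hAK : A ≤ Subgroup.normalizer (K : Set M)) {g : M}
    (hg : (orderOf g).Coprime p) (h : g ∈ K ⊔ A) : g ∈ K := by
  set N := Subgroup.normalizer (K : Set M) with hN
  have hKN : K ≤ N := Subgroup.le_normalizer
  have : (K.subgroupOf N).Normal := Subgroup.normal_in_normalizer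
  have hgN : g ∈ N := sup_le hKN hAK h
  have := mem_of_coprime_of_mem_sup (N := K.subgroupOf N) (P := A.subgroupOf N)
    (hA.of_equiv (Subgroup.subgroupOfEquivOfLe hAK).symm) (d := ⟨g, hgN⟩)
    (by rwa [Subgroup.orderOf_mk]) (by rw [← Subgroup.subgroupOf_sup hKN hAK]; exact h)
  exact this

/-- If `A = ⟨B, a⟩` modulo a map with `f a ^ p = 1` then `|A : B| ≤ p`. -/
theorem relIndex_le_prime [Finite M] {p : ℕ} (_hp : 0 < p) {A B : Subgroup M} {a : M} (ha : a ∈ A)
    (h : ∀ x ∈ A, ∃ i < p, (a ^ i)⁻¹ * x ∈ B) : B.relIndex A ≤ p := by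
  rw [Subgroup.relIndex, Subgroup.index]
  refine (Nat.card_le_card_of_surjective
    (fun i : Fin p => (QuotientGroup.mk (⟨a, ha⟩ ^ (i : ℕ) : A) : A ⧸ B.subgroupOf A)) ?_).trans
    (Nat.card_fin p).le
  intro q
  induction q using QuotientGroup.induction_on with
  | H x =>
    obtain ⟨i, hi, hx⟩ := h x x.2
    exact ⟨⟨i, hi⟩, QuotientGroup.eq.mpr (Subgroup.mem_subgroupOf.mpr (by simpa using hx))⟩

/-- A subgroup generated by two conjugates inside `O^p`, with all the listed properties. -/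
theorem exists_two_conjugates [Finite M] {p : ℕ} [hp : Fact p.Prime] (hM : IsPSolvable p M)
    (A : Subgroup M) (hA : IsPGroup p A) (hΦ : (frattini ↥A).map A.subtype ≤ pCore p M)
    (hnot : ¬ A ≤ pCore p M) :
    ∃ x ∈ (pPrimeCore p (M ⧸ pCore p M)).comap (QuotientGroup.mk' (pCore p M)),
      ∀ L, L = A ⊔ A.map (MulAut.conj x).toMonoidHom →
        x ∈ (pResidual p ↥L).map L.subtype ∧
        (pResidual p ↥L).map L.subtype ≤
          (pPrimeCore p (M ⧸ pCore p M)).comap (QuotientGroup.mk' (pCore p M)) ∧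
        ⁅(pResidual p ↥L).map L.subtype, A⁆ = (pResidual p ↥L).map L.subtype ∧
        (A ⊓ (pCore p ↥L).map L.subtype).relIndex A = p ∧
        ⁅A ⊓ (pCore p ↥L).map L.subtype, L⁆ ≤ pCore p M := by
  classical
  set R := pCore p M with hR
  set f := QuotientGroup.mk' R with hf
  set Q := pPrimeCore p (M ⧸ R) with hQdef
  have hQn : Q.Normal := Constrained.instNormalPPrimeCore p
  have hker : ∀ m, f m = 1 ↔ m ∈ R := fun m => QuotientGroup.eq_one_iff m
  set Ab := A.map f with hAb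
  have hAbp : IsPGroup p Ab := hA.map f
  have hcop : (Nat.card Ab).Coprime (Nat.card Q) := by
    obtain ⟨i, hi⟩ := IsPGroup.iff_card.mp hAbp
    rw [hi]; exact Constrained.pPrimeCore_coprime.symm.pow_left i
  have hcomm : ∀ u ∈ Ab, ∀ v ∈ Ab, u * v = v * u := by
    rintro _ ⟨u, hu, rfl⟩ _ ⟨v, hv, rfl⟩
    rw [← commutatorElement_eq_one_iff_mul_comm, ← map_commutatorElement, hker]
    exact hΦ (Coprime.commutator_le_frattini_map hA (Subgroup.commutator_mem_commutator hu hv))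
  have hpow : ∀ u ∈ Ab, u ^ p = 1 := by
    rintro _ ⟨u, hu, rfl⟩
    rw [← map_pow, hker]
    exact hΦ (Coprime.pow_mem_frattini_map hA hu)
  -- a hyperplane with moved fixed points
  have hne : ⁅Q, Ab⁆ ≠ ⊥ := by
    intro h0
    have h1 : Ab ≤ Q := fun u hu =>
      Constrained.centralizer_pPrimeCore_le (Constrained.IsPSolvable.quotient hM R)
        Constrained.pCore_quotient_pCore (Subgroup.mem_centralizer_iff.mpr fun q hq =>
          (Subgroup.mem_centralizer_iff.mp ((Subgroup.commutator_eq_bot_iff_le_centralizer.mp h0) hq)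
            u hu).symm)
    refine hnot fun a ha => (hker a).mp ?_
    have h2 := disjoint_iff.mp (Subgroup.disjoint_of_coprime_natCard hcop)
    have h3 : f a ∈ Ab ⊓ Q := ⟨⟨a, ha, rfl⟩, h1 ⟨a, ha, rfl⟩⟩
    rwa [h2, Subgroup.mem_bot] at h3
  obtain ⟨Bb, hBA, ⟨_, ⟨a₀, ha₀, rfl⟩, hgen⟩, hmove⟩ :
      ∃ Bb ≤ Ab, (∃ a ∈ Ab, Bb ⊔ Subgroup.zpowers a = Ab) ∧
        ⁅Q ⊓ Subgroup.centralizer (Bb : Set (M ⧸ R)), Ab⁆ ≠ ⊥ := by
    by_contra hno
    refine hne (le_bot_iff.mp (Coprime.commutator_le_of_cocyclic ?_ ?_ hcop fun B hB hc => ?_))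
    · exact ⟨⟨fun u v => Subtype.ext (hcomm u u.2 v v.2)⟩⟩
    · exact fun u _ => Subgroup.normalizer_eq_top_iff.mpr hQn ▸ Subgroup.mem_top u
    · by_contra h
      exact hno ⟨B, hB, hc, fun h' => h h'.le⟩
  have hbc : ∀ u ∈ Bb, ∀ v ∈ Ab, u * v = v * u := fun u hu v hv => hcomm u (hBA hu) v hv
  have ha₀B : f a₀ ∉ Bb := by
    intro h
    have hAB : Ab ≤ Bb := hgen ▸ sup_le le_rfl ((Subgroup.zpowers_le).mpr h)
    refine hmove (Subgroup.commutator_eq_bot_iff_le_centralizer.mpr (inf_le_right.trans ?_))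
    exact Subgroup.centralizer_le hAB
  -- a minimal pair of conjugates
  let P : M → Prop := fun y => f y ∈ Q ⊓ Subgroup.centralizer (Bb : Set (M ⧸ R)) ∧
    ∃ a ∈ A, f a * f y ≠ f y * f a
  have hex : ∃ n, ∃ y, P y ∧ Nat.card ↥(A ⊔ A.map (MulAut.conj y).toMonoidHom) = n := by
    obtain ⟨yb, hyb, hyne⟩ := SetLike.not_le_iff_exists.mp
      (mt Subgroup.commutator_eq_bot_iff_le_centralizer.mpr hmove)
    obtain ⟨y, rfl⟩ := QuotientGroup.mk'_surjective R yb
    rw [Subgroup.mem_centralizer_iff] at hyne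
    push Not at hyne
    obtain ⟨_, ⟨a, ha, rfl⟩, hne'⟩ := hyne
    exact ⟨_, y, ⟨hyb, a, ha, hne'⟩, rfl⟩
  obtain ⟨y, ⟨hy, a, ha, hay⟩, hcard⟩ := Nat.find_spec hex
  have hmin : ∀ w, P w → Nat.find hex ≤ Nat.card ↥(A ⊔ A.map (MulAut.conj w).toMonoidHom) :=
    fun w hw => Nat.find_min' hex ⟨w, hw, rfl⟩
  set Ly := A ⊔ A.map (MulAut.conj y).toMonoidHom with hLy
  set c := a * y * a⁻¹ * y⁻¹ with hc
  have hcL : c ∈ Ly := by
    rw [hc, show a * y * a⁻¹ * y⁻¹ = a * (y * a⁻¹ * y⁻¹) by group]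
    exact mul_mem (le_sup_left (a := A) ha) (le_sup_right (a := A) ⟨a⁻¹, inv_mem ha, by simp⟩)
  have hfc : f c = f a * f y * (f a)⁻¹ * (f y)⁻¹ := by simp [hc]
  have hcQ : f c ∈ Q := by
    rw [hfc]; exact mul_mem (hQn.conj_mem _ hy.1 _) (inv_mem hy.1)
  have hcC : f c ∈ Subgroup.centralizer (Bb : Set (M ⧸ R)) := by
    have haC : f a ∈ Subgroup.centralizer (Bb : Set (M ⧸ R)) :=
      Subgroup.mem_centralizer_iff.mpr fun u hu => hbc u hu _ ⟨a, ha, rfl⟩
    rw [hfc]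
    exact mul_mem (mul_mem (mul_mem haC hy.2) (inv_mem haC)) (inv_mem hy.2)
  have hQord : ∀ {u}, u ∈ Q → (orderOf u).Coprime p := fun hu =>
    Constrained.pPrimeCore_coprime.coprime_dvd_left (Subgroup.orderOf_dvd_natCard Q hu)
  obtain ⟨k, hzord, hzpart⟩ := exists_pow_coprime_part (p := p) c
  set z := c ^ k with hz
  have hfz : f z = f c := hzpart f (hQord hcQ)
  have hzP : P z := by
    refine ⟨hfz ▸ ⟨hcQ, hcC⟩, a, ha, fun h => hay ?_⟩
    rw [hfz, hfc] at h
    exact Coprime.commute_of_commute_commutator h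
      ((hcop.coprime_dvd_left (Subgroup.orderOf_dvd_natCard Ab ⟨a, ha, rfl⟩)).coprime_dvd_right
        (Subgroup.orderOf_dvd_natCard Q (hfc ▸ hcQ)))
  have hzLy : z ∈ Ly := pow_mem hcL k
  set L := A ⊔ A.map (MulAut.conj z).toMonoidHom with hL
  have hLle : L ≤ Ly := by
    refine sup_le le_sup_left ?_
    rintro _ ⟨u, hu, rfl⟩
    exact mul_mem (mul_mem hzLy (le_sup_left (a := A) hu)) (inv_mem hzLy)
  have hLeq : L = Ly := Subgroup.eq_of_le_of_card_ge hLle (hcard.trans_le (hmin z hzP))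
  have hzL : z ∈ L := hLeq ▸ hzLy
  refine ⟨z, Subgroup.mem_comap.mpr hzP.1.1, fun L' hL' => ?_⟩
  subst hL'
  set O := (pResidual p ↥L).map L.subtype with hO
  have hOeq : O = Subgroup.closure {g | g ∈ L ∧ (orderOf g).Coprime p} := by
    rw [hO, pResidual, MonoidHom.map_closure]
    congr 1; ext g
    constructor
    · rintro ⟨g, hg, rfl⟩; exact ⟨g.2, show (orderOf (g : M)).Coprime p by rwa [Subgroup.orderOf_coe]⟩
    · exact fun ⟨h1, h2⟩ => ⟨⟨g, h1⟩, by simpa [Subgroup.orderOf_mk] using h2, rfl⟩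
  have hzO : z ∈ O := hOeq ▸ Subgroup.subset_closure ⟨hzL, hzord⟩
  have hconj : ∀ l ∈ L, ∀ g ∈ O, l * g * l⁻¹ ∈ O := by
    intro l hl g hg
    have : O ≤ O.comap (MulAut.conj l).toMonoidHom := by
      conv_lhs => rw [hOeq]
      refine (Subgroup.closure_le _).mpr fun w hw => ?_
      rw [SetLike.mem_coe, Subgroup.mem_comap, hOeq]
      refine Subgroup.subset_closure ⟨mul_mem (mul_mem hl hw.1) (inv_mem hl), ?_⟩
      rw [orderOf_injective _ (MulAut.conj l).injective]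
      exact hw.2
    exact this hg
  have hLn : L ≤ Subgroup.normalizer (O : Set M) := fun l hl =>
    Subgroup.mem_normalizer_iff.mpr fun g => ⟨hconj l hl g, fun h => by
      simpa [mul_assoc] using hconj l⁻¹ (inv_mem hl) _ h⟩
  have hzQ : f z ∈ Q := hzP.1.1
  have hLQ : L.map f ≤ Q ⊔ Ab := by
    rw [hL, Subgroup.map_sup, sup_le_iff]
    refine ⟨le_sup_right, ?_⟩
    rintro _ ⟨_, ⟨u, hu, rfl⟩, rfl⟩
    simp only [MulEquiv.coe_toMonoidHom, MulAut.conj_apply, map_mul, map_inv]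
    exact mul_mem (mul_mem (Subgroup.mem_sup_left hzQ)
      (Subgroup.mem_sup_right ⟨u, hu, rfl⟩)) (inv_mem (Subgroup.mem_sup_left hzQ))
  have hLC : L ≤ (Subgroup.centralizer (Bb : Set (M ⧸ R))).comap f := by
    have hAC : A ≤ (Subgroup.centralizer (Bb : Set (M ⧸ R))).comap f := fun u hu =>
      Subgroup.mem_centralizer_iff.mpr fun b hb => hbc b hb _ ⟨u, hu, rfl⟩
    rw [hL, sup_le_iff]
    refine ⟨hAC, ?_⟩
    rintro _ ⟨u, hu, rfl⟩
    exact mul_mem (mul_mem (Subgroup.mem_comap.mpr hzP.1.2) (hAC hu))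
      (inv_mem (Subgroup.mem_comap.mpr hzP.1.2))
  -- `[O^p(L), A] = O^p(L)`
  have hK : ⁅O, A⁆ = O := by
    refine le_antisymm (Coprime.commutator_le_of_le_normalizer (le_sup_left.trans hLn)) ?_
    have hLK : L ≤ ⁅O, A⁆ ⊔ A := by
      rw [hL, sup_le_iff]
      refine ⟨le_sup_right, ?_⟩
      rintro _ ⟨u, hu, rfl⟩
      simp only [MulEquiv.coe_toMonoidHom, MulAut.conj_apply]
      rw [show z * u * z⁻¹ = ⁅z, u⁆ * u by simp [commutatorElement_def, mul_assoc]]
      exact mul_mem (Subgroup.mem_sup_left (Subgroup.commutator_mem_commutator hzO hu))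
        (Subgroup.mem_sup_right hu)
    conv_lhs => rw [hOeq]
    exact (Subgroup.closure_le _).mpr fun g hg => mem_of_coprime_of_mem_sup_of_le_normalizer hA
      (Subgroup.normalizer_commutator_ge_right O A) hg.2 (hLK hg.1)
  have hOQ : O ≤ Q.comap f := by
    rw [hOeq]
    exact (Subgroup.closure_le _).mpr fun g hg => mem_of_coprime_of_mem_sup hAbp
      (hg.2.coprime_dvd_left (orderOf_map_dvd f g)) (hLQ ⟨g, hg.1, rfl⟩)
  -- `A ∩ O_p(L)` is the hyperplane
  set B := A ⊓ Bb.comap f with hB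
  have hidx : B.relIndex A = p := by
    have hle : B.relIndex A ≤ p := by
      refine relIndex_le_prime hp.out.pos ha₀ fun x hx => ?_
      have hn : Subgroup.zpowers (f a₀) ≤ Subgroup.normalizer (Bb : Set (M ⧸ R)) :=
        (Subgroup.zpowers_le.mpr (Subgroup.mem_centralizer_iff.mpr fun b hb =>
          hbc b hb _ ⟨a₀, ha₀, rfl⟩)).trans (Subgroup.centralizer_le_normalizer _)
      have hx' : f x ∈ ((Bb ⊔ Subgroup.zpowers (f a₀) : Subgroup _) : Set (M ⧸ R)) :=
        hgen.symm ▸ ⟨x, hx, rfl⟩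
      rw [Subgroup.coe_mul_of_right_le_normalizer_left _ _ hn] at hx'
      obtain ⟨b, hb, _, hw, hbw : b * _ = f x⟩ := hx'
      obtain ⟨n, rfl⟩ := mem_powers_iff_mem_zpowers.mpr hw
      refine ⟨n % p, Nat.mod_lt _ hp.out.pos, A.mul_mem (A.inv_mem (A.pow_mem ha₀ _)) hx, ?_⟩
      show f ((a₀ ^ (n % p))⁻¹ * x) ∈ Bb
      rw [ map_mul, map_inv, map_pow, ← hbw,
        ← pow_eq_pow_mod n (hpow _ ⟨a₀, ha₀, rfl⟩)]
      rwa [hbc b hb _ (pow_mem (Subgroup.mem_map_of_mem f ha₀) n), inv_mul_cancel_left]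
    have h1 : B.relIndex A ≠ 1 := fun h =>
      ha₀B (Subgroup.relIndex_eq_one.mp h ha₀).2
    obtain ⟨e, he⟩ := IsPGroup.iff_card.mp hA
    obtain ⟨i, -, hi⟩ := (Nat.dvd_prime_pow hp.out).mp (he ▸ Subgroup.relIndex_dvd_card B A)
    rw [hi] at hle h1 ⊢
    have hi0 : i ≠ 0 := fun h => h1 (by rw [h, pow_zero])
    have hi1 : i ≤ 1 := (Nat.pow_le_pow_iff_right hp.out.one_lt).mp (by simpa using hle)
    rw [le_antisymm hi1 (Nat.one_le_iff_ne_zero.mpr hi0), pow_one]
  have hRp : IsPGroup p R := Constrained.isPGroup_pCore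
  have : R.Normal := Constrained.instNormalPCore p
  have hBR : (B ⊔ R).map f ≤ Bb := by
    rw [Subgroup.map_sup, sup_le_iff]
    exact ⟨Subgroup.map_le_iff_le_comap.mpr inf_le_right,
      fun u ⟨r, hr, hru⟩ => hru ▸ (hker r).mpr hr ▸ one_mem Bb⟩
  have hBcore : B ≤ (pCore p ↥L).map L.subtype := by
    intro b hb
    have hbL : b ∈ L := le_sup_left (a := A) hb.1
    refine ⟨⟨b, hbL⟩, Constrained.le_pCore (N := (B ⊔ R).subgroupOf L) ⟨fun n hn l => ?_⟩
      (((hA.to_le inf_le_left).to_sup_of_normal_right hRp).comap_subtype) (Subgroup.mem_sup_left hb), rfl⟩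
    have hcm : f (n : M) * f l = f l * f (n : M) :=
      Subgroup.mem_centralizer_iff.mp (hLC l.2) _ (hBR ⟨n, hn, rfl⟩)
    have hr : (n : M)⁻¹ * (l * n * (l : M)⁻¹) ∈ R := by
      rw [← hker, map_mul, map_inv, map_mul, map_mul, map_inv, ← hcm, mul_inv_cancel_right,
        inv_mul_cancel]
    have := (B ⊔ R).mul_mem hn (Subgroup.mem_sup_right hr)
    simp only [Subgroup.coe_subtype, mul_inv_cancel_left] at this
    exact this
  have hinf : A ⊓ (pCore p ↥L).map L.subtype = B := by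
    refine le_antisymm ?_ (le_inf inf_le_left hBcore)
    by_contra hlt
    have hBle : B ≤ A ⊓ (pCore p ↥L).map L.subtype := le_inf inf_le_left hBcore
    have hmul := Subgroup.relIndex_mul_relIndex B _ A hBle inf_le_left
    rw [hidx] at hmul
    rcases (Nat.dvd_prime hp.out).mp (Dvd.intro _ hmul) with h | h
    · exact hlt (Subgroup.relIndex_eq_one.mp h)
    rw [h] at hmul
    have hAcore : A ≤ (pCore p ↥L).map L.subtype := fun u hu =>
      (Subgroup.relIndex_eq_one.mp ((Nat.mul_eq_left hp.out.ne_zero).mp hmul) hu).2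
    have hLp : L ≤ (pCore p ↥L).map L.subtype := by
      conv_lhs => rw [hL]
      refine sup_le hAcore ?_
      rintro _ ⟨u, hu, rfl⟩
      obtain ⟨v, hv, rfl⟩ := hAcore hu
      exact ⟨⟨z, hzL⟩ * v * ⟨z, hzL⟩⁻¹, (Constrained.instNormalPCore p).conj_mem v hv _, by simp⟩
    obtain ⟨j, hj⟩ := ((Constrained.isPGroup_pCore (G := L)).map L.subtype) ⟨z, hLp hzL⟩
    have hz1 : z = 1 := orderOf_eq_one_iff.mp ((hzord.pow_right j).eq_one_of_dvd
      (orderOf_dvd_of_pow_eq_one (congrArg Subtype.val hj)))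
    obtain ⟨-, w, -, hw⟩ := hzP
    exact hw (by rw [hz1, map_one, mul_one, one_mul])
  refine ⟨hzO, hOQ, hK, hinf ▸ hidx, ?_⟩
  rw [hinf, Subgroup.commutator_le]
  intro b hb l hl
  rw [← hker, map_commutatorElement, commutatorElement_eq_one_iff_mul_comm]
  exact Subgroup.mem_centralizer_iff.mp (hLC hl) _ hb.2

end CfsgLib.Cores
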